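import Groth.Agent.Lib.C1.FlatGysin
import Groth.Agent.Lib.C1.BasePush
import Groth.Agent.Lib.TFCurve11.Basic
import Groth.Agent.Lib.RedSub.Basic
import Groth.Prelude.Def_FDesc
import Mathlib.AlgebraicGeometry.Geometrically.Reduced

/-!
# Multiplicities of components under two successive field extensions
-/

set_option autoImplicit false
set_option linter.style.haveILetI false

universe u

open CategoryTheory CategoryTheory.Limits AlgebraicGeometry IsLocalRing GrothLib.CycFlat

noncomputable section

namespace GrothLib.LenBC7

theorem fibLength_iso {A B : Scheme.{u}} (e : A ≅ B) (z : A) : fibLength e.hom z = 1 := by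
  have hbij := (ConcreteCategory.isIso_iff_bijective (e.hom.stalkMap z)).1 inferInstance
  have hm : (maximalIdeal (B.presheaf.stalk (e.hom z))).map (e.hom.stalkMap z).hom = maximalIdeal _ := by
    refine le_antisymm (Ideal.map_le_iff_le_comap.2 fun a ha => ?_) fun a ha => ?_
    · rw [Ideal.mem_comap, IsLocalRing.mem_maximalIdeal, mem_nonunits_iff]
      exact fun hu => ha (isUnit_of_map_unit _ a hu)
    · obtain ⟨a', rfl⟩ := hbij.2 a
      exact Ideal.mem_map_of_mem _ ((IsLocalRing.mem_maximalIdeal _).2 fun hu => ha (hu.map _))
  show Module.length _ _ = 1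
  rw [hm]
  haveI : IsSimpleModule (A.presheaf.stalk z) (A.presheaf.stalk z ⧸ maximalIdeal (A.presheaf.stalk z)) :=
    isSimpleModule_iff_isCoatom.2 (maximalIdeal.isMaximal _).out
  exact Module.length_eq_one (R := A.presheaf.stalk z) (M := A.presheaf.stalk z ⧸ maximalIdeal (A.presheaf.stalk z))

theorem length_of_isField {R : Type u} [CommRing R] (h : IsField R) : Module.length R R = 1 := by
  letI := h.toField
  haveI : IsSimpleModule R R := inferInstance
  exact Module.length_eq_one (R := R) (M := R)

/-- Multiplicities along a flat map and the reduction. -/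
theorem length_eq {W X : Scheme.{u}} (π : W ⟶ X) [Flat π] (hred : AlgebraicGeometry.IsReduced X.nilradical.subscheme)
    {T : Scheme.{u}} {j : T ⟶ W} {π' : T ⟶ X.nilradical.subscheme} (hsq : IsPullback j π' π X.nilradical.subschemeι)
    (t : T) (hw : ∀ v : W, v ⤳ j t → v = j t) :
    Module.length (W.presheaf.stalk (j t)) (W.presheaf.stalk (j t)) =
      Module.length (X.presheaf.stalk (π (j t))) (X.presheaf.stalk (π (j t))) *
        Module.length (T.presheaf.stalk t) (T.presheaf.stalk t) := by
  haveI : Flat π' := MorphismProperty.of_isPullback hsq ‹Flat π›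
  let ι := X.nilradical.subschemeι
  let e : T ≅ pullback π ι := hsq.isoPullback
  haveI : Flat (pullback.snd π ι) := inferInstance
  haveI : Flat e.hom := inferInstance
  have h1 : fibLength π' t = fibLength π (j t) := by
    have hs : e.hom ≫ pullback.snd π ι = π' := hsq.isoPullback_hom_snd
    rw [← fibLength_congr hs t, fibLength_comp, fibLength_iso, mul_one, C1.fibLength_pullback_snd π ι (e.hom t),
      show pullback.fst π ι (e.hom t) = j t by rw [← Scheme.Hom.comp_apply, hsq.isoPullback_hom_fst]]
  have hx : ∀ v : X, v ⤳ π (j t) → v = π (j t) := fun v hv => by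
    obtain ⟨v', hv', rfl⟩ := Flat.generalizingMap π hv
    rw [hw v' hv']
  have hz : ∀ v : X.nilradical.subscheme, v ⤳ π' t → v = π' t := fun v hv => by
    refine X.nilradical.subschemeι.isClosedEmbedding.injective ?_
    have e1 : ι (π' t) = π (j t) := by rw [← Scheme.Hom.comp_apply, ← hsq.w]; rfl
    have := hx (ι v) (e1 ▸ hv.map ι.continuous)
    exact this.trans e1.symm
  rw [C1.BasePush.length_stalk_eq π (j t), C1.BasePush.length_stalk_eq π' t,
    length_of_isField (TFCurve11.isField_stalk_of_maximal (π' t) hz), one_mul, h1]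

/-- The square of the reduction. -/
theorem isPullback_red {k' k'' : Type u} [Field k'] [Field k''] [Algebra k' k''] {X' : Scheme.{u}}
    (g : X' ⟶ Spec (CommRingCat.of k')) :
    IsPullback
      (pullback.map (X'.nilradical.subschemeι ≫ g)
        (Spec.map (CommRingCat.ofHom (algebraMap k' k''))) g
        (Spec.map (CommRingCat.ofHom (algebraMap k' k''))) X'.nilradical.subschemeι (𝟙 _) (𝟙 _)
        (Category.comp_id _) ((Category.comp_id _).trans (Category.id_comp _).symm))
      (pullback.fst (X'.nilradical.subschemeι ≫ g) (Spec.map (CommRingCat.ofHom (algebraMap k' k''))))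
      (pullback.fst g (Spec.map (CommRingCat.ofHom (algebraMap k' k''))))
      X'.nilradical.subschemeι := by
  refine IsPullback.of_right ?_ (pullback.lift_fst _ _ _) (IsPullback.of_hasPullback g _).flip
  rw [show pullback.map _ _ _ _ _ _ _ _ _ ≫ pullback.snd g (Spec.map (CommRingCat.ofHom (algebraMap k' k''))) =
    pullback.snd (X'.nilradical.subschemeι ≫ g) _ from (pullback.lift_snd _ _ _).trans (Category.comp_id _)]
  exact (IsPullback.of_hasPullback (X'.nilradical.subschemeι ≫ g) _).flip

theorem isReduced_red (X : Scheme.{u}) : AlgebraicGeometry.IsReduced X.nilradical.subscheme := by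
  rw [← AlgebraicGeometry.Scheme.IdealSheafData.vanishingIdeal_top]
  exact GrothLib.RedSub.isReduced_subscheme_vanishingIdeal _

end GrothLib.LenBC7
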